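import Mathlib.RingTheory.AdjoinRoot
import Mathlib.RingTheory.Unramified.Basic
import Mathlib.RingTheory.Kaehler.Basic
import Mathlib.RingTheory.Filtration
import Mathlib.RingTheory.Ideal.Quotient.Operations

/-!
Unramified algebras mapping to the extension by a `p`-th root land in the base
-/

set_option autoImplicit false
set_option linter.style.haveILetI false

universe u

open Polynomial

noncomputable section

namespace Groth.Agent.PthRoot25

variable {A : Type u} [CommRing A] [IsDomain A] (p : ℕ) [Fact p.Prime] (f : A)

/-- The polynomial `X ^ p - f`. -/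
abbrev poly : A[X] := X ^ p - C f

theorem monic_poly : (poly p f).Monic := monic_X_pow_sub_C f (Fact.out : p.Prime).ne_zero

theorem natDegree_poly : (poly p f).natDegree = p := natDegree_X_pow_sub_C

/-- Coordinates of an element of `A[t]/(t^p - f)`. -/
def coord (i : ℕ) : AdjoinRoot (poly p f) →ₗ[A] A :=
  (lcoeff A i).comp (AdjoinRoot.modByMonicHom (monic_poly p f))

theorem coord_of (a : A) : coord p f 0 (AdjoinRoot.of (poly p f) a) = a ∧
    ∀ i, coord p f (i + 1) (AdjoinRoot.of (poly p f) a) = 0 := by
  have h : AdjoinRoot.modByMonicHom (monic_poly p f) (AdjoinRoot.of (poly p f) a) = C a := by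
    rw [← AdjoinRoot.mk_C, AdjoinRoot.modByMonicHom_mk, modByMonic_eq_self_iff (monic_poly p f)]
    refine lt_of_le_of_lt degree_C_le ?_
    rw [degree_eq_natDegree (monic_poly p f).ne_zero, natDegree_poly]
    exact_mod_cast (Fact.out : p.Prime).pos
  exact ⟨by simp [coord, h], fun i => by simp [coord, h]⟩

theorem mem_range_of (x : AdjoinRoot (poly p f)) (h : ∀ i, coord p f (i + 1) x = 0) :
    AdjoinRoot.of (poly p f) (coord p f 0 x) = x := by
  have h1 : AdjoinRoot.modByMonicHom (monic_poly p f) x = C (coord p f 0 x) := by
    ext i
    cases i with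
    | zero => simp [coord]
    | succ i => simpa [coord] using h i
  conv_rhs => rw [← AdjoinRoot.mk_leftInverse (monic_poly p f) x, h1]
  rw [AdjoinRoot.mk_C]

/-- Reduction modulo `p`. -/
abbrev red : AdjoinRoot (poly p f) →+*
    AdjoinRoot (poly p f) ⧸ Ideal.span {((p : ℕ) : AdjoinRoot (poly p f))} := Ideal.Quotient.mk _

theorem red_derivative_mul (Q : A[X]) :
    red p f (AdjoinRoot.mk (poly p f) (derivative (poly p f * Q))) = 0 := by
  rw [derivative_mul, map_add, map_mul, map_mul, AdjoinRoot.mk_self, zero_mul, add_zero,
    map_mul]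
  have : red p f (AdjoinRoot.mk (poly p f) (derivative (poly p f))) = 0 := by
    rw [derivative_sub, derivative_C, sub_zero, derivative_X_pow, map_mul, map_mul,
      map_natCast, map_natCast, map_natCast]
    rw [show (p : AdjoinRoot (poly p f) ⧸ Ideal.span {((p : ℕ) : AdjoinRoot (poly p f))}) = 0 from by
      rw [← map_natCast (red p f)]
      exact Ideal.Quotient.eq_zero_iff_mem.2 (Ideal.subset_span rfl), zero_mul]
  rw [this, zero_mul]

/-- The derivative with respect to the root, modulo `p`. -/
def dRoot : AdjoinRoot (poly p f) →ₗ[A]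
    AdjoinRoot (poly p f) ⧸ Ideal.span {((p : ℕ) : AdjoinRoot (poly p f))} :=
  ((Ideal.Quotient.mkₐ A _).toLinearMap.comp
    (AdjoinRoot.mkₐ (poly p f)).toLinearMap).comp
    (derivative.comp (AdjoinRoot.modByMonicHom (monic_poly p f)))

theorem dRoot_mk (P : A[X]) : dRoot p f (AdjoinRoot.mk (poly p f) P) =
    red p f (AdjoinRoot.mk (poly p f) (derivative P)) := by
  have hP : P %ₘ poly p f + poly p f * (P /ₘ poly p f) = P := modByMonic_add_div P _
  show red p f (AdjoinRoot.mk (poly p f) (derivative
    (AdjoinRoot.modByMonicHom (monic_poly p f) (AdjoinRoot.mk (poly p f) P)))) = _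
  rw [AdjoinRoot.modByMonicHom_mk]
  conv_rhs => rw [← hP, map_add derivative, map_add, map_add, red_derivative_mul, add_zero]

theorem dRoot_mul (x y : AdjoinRoot (poly p f)) :
    dRoot p f (x * y) = red p f x * dRoot p f y + red p f y * dRoot p f x := by
  obtain ⟨P, rfl⟩ := AdjoinRoot.mk_surjective x
  obtain ⟨Q, rfl⟩ := AdjoinRoot.mk_surjective y
  rw [← map_mul (AdjoinRoot.mk (poly p f)), dRoot_mk, dRoot_mk, dRoot_mk, derivative_mul]
  simp only [map_add, map_mul]
  ring

theorem dRoot_of (a : A) : dRoot p f (AdjoinRoot.of (poly p f) a) = 0 := by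
  rw [← AdjoinRoot.mk_C, dRoot_mk, derivative_C, map_zero, map_zero]

theorem dvd_coord_of_dRoot_eq_zero (x : AdjoinRoot (poly p f)) (h : dRoot p f x = 0) (i : ℕ) :
    (p : A) ∣ coord p f (i + 1) x := by
  have hp := (Fact.out : p.Prime)
  let P := AdjoinRoot.modByMonicHom (monic_poly p f) x
  have hPd : P.natDegree < p := by
    have h1 : P = P %ₘ poly p f := by
      show P = AdjoinRoot.modByMonicHom (monic_poly p f) x %ₘ poly p f
      obtain ⟨Q, rfl⟩ := AdjoinRoot.mk_surjective x
      simp only [P, AdjoinRoot.modByMonicHom_mk]
      rw [modByMonic_eq_self_iff (monic_poly p f) |>.2 (degree_modByMonic_lt Q (monic_poly p f))]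
    rw [h1]
    have := natDegree_modByMonic_lt P (monic_poly p f) (fun h1 => by
      have h2 := natDegree_poly p f
      rw [h1, natDegree_one] at h2
      exact hp.ne_zero h2.symm)
    exact this.trans_eq (natDegree_poly p f)
  show (p : A) ∣ P.coeff (i + 1)
  by_cases hi : i + 1 < p
  · have h0 : red p f (AdjoinRoot.mk (poly p f) (derivative P)) = 0 := h
    rw [Ideal.Quotient.eq_zero_iff_mem, Ideal.mem_span_singleton] at h0
    obtain ⟨y, hy⟩ := h0
    have h2 := congrArg (coord p f i) hy
    rw [← nsmul_eq_mul, map_nsmul, nsmul_eq_mul] at h2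
    have h3 : coord p f i (AdjoinRoot.mk (poly p f) (derivative P)) =
        P.coeff (i + 1) * ((i + 1 : ℕ) : A) := by
      show ((AdjoinRoot.modByMonicHom (monic_poly p f)) _).coeff i = _
      rw [AdjoinRoot.modByMonicHom_mk, (modByMonic_eq_self_iff (monic_poly p f)).2, coeff_derivative,
        Nat.cast_succ]
      refine (degree_le_natDegree).trans_lt ?_
      rw [degree_eq_natDegree (monic_poly p f).ne_zero, natDegree_poly]
      exact_mod_cast (natDegree_derivative_le P).trans_lt (lt_of_le_of_lt (Nat.sub_le _ _) hPd)
    rw [h3] at h2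
    have hco : IsCoprime ((i + 1 : ℕ) : ℤ) (p : ℤ) := by
      rw [Nat.isCoprime_iff_coprime]
      exact (hp.coprime_iff_not_dvd.2 (Nat.not_dvd_of_pos_of_lt (Nat.succ_pos i) hi)).symm
    obtain ⟨a, b, hab⟩ := hco
    have hab' := congrArg (fun z : ℤ => (z : A)) hab
    push_cast at hab'
    refine ⟨(a : A) * coord p f i y + (b : A) * P.coeff (i + 1), ?_⟩
    push_cast at h2
    linear_combination (a : A) * h2 - P.coeff (i + 1) * hab'
  · rw [coeff_eq_zero_of_natDegree_lt (by omega)]
    exact dvd_zero _

/-- An algebra map from a formally unramified algebra to `A[t]/(t^p - f)` has values in `A`, when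
`A` is `p`-adically separated. -/
theorem mem_range_of_formallyUnramified {B : Type u} [CommRing B] [Algebra A B]
    [Algebra.FormallyUnramified A B] (φ : B →ₐ[A] AdjoinRoot (poly p f)) (hp : (p : A) ≠ 0)
    (hsep : ∀ c : A, (∀ n : ℕ, (p : A) ^ n ∣ c) → c = 0) (b : B) :
    AdjoinRoot.of (poly p f) (coord p f 0 (φ b)) = φ b := by
  have key : ∀ (n : ℕ) (b : B) (i : ℕ), (p : A) ^ n ∣ coord p f (i + 1) (φ b) := by
    intro n
    induction n with
    | zero => intro b i; simp
    | succ n ih =>
      letI : Algebra B (AdjoinRoot (poly p f)) := φ.toRingHom.toAlgebra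
      haveI : IsScalarTower A B (AdjoinRoot (poly p f)) :=
        IsScalarTower.of_algebraMap_eq fun a => (φ.commutes a).symm
      have hw : ∀ b : B, ∃ w : AdjoinRoot (poly p f),
          φ b = AdjoinRoot.of (poly p f) (coord p f 0 (φ b)) + (p : A) ^ n • w := by
        intro b
        choose c hc using ih b
        refine ⟨AdjoinRoot.mk (poly p f)
          (∑ i ∈ Finset.range p, C (c i) * X ^ (i + 1)), ?_⟩
        conv_lhs => rw [← AdjoinRoot.mk_leftInverse (monic_poly p f) (φ b)]
        rw [← AdjoinRoot.mk_C, Algebra.smul_def, AdjoinRoot.algebraMap_eq, ← AdjoinRoot.mk_C,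
          ← map_mul, ← map_add]
        congr 1
        ext j
        rw [coeff_add, coeff_C, coeff_C_mul, finsetSum_coeff]
        cases j with
        | zero => simp [coord]
        | succ j =>
          simp only [coeff_C_mul, coeff_X_pow, Nat.add_right_cancel_iff, mul_ite, mul_one, mul_zero,
            Finset.sum_ite_eq, Finset.mem_range, if_neg (Nat.succ_ne_zero j), zero_add]
          by_cases hj : j < p
          · rw [if_pos hj, ← hc j]; rfl
          · rw [if_neg hj]
            obtain ⟨Q, hQ⟩ := AdjoinRoot.mk_surjective (φ b)
            rw [← hQ, AdjoinRoot.modByMonicHom_mk]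
            apply coeff_eq_zero_of_natDegree_lt
            have h1 := natDegree_modByMonic_le Q (monic_poly p f)
            rw [natDegree_poly] at h1
            omega
      have huniq : ∀ (w : AdjoinRoot (poly p f)) (a : A),
          (p : A) ^ n • w = AdjoinRoot.of (poly p f) a → dRoot p f w = 0 := by
        intro w a h
        rw [← mem_range_of p f w (fun i => ?_), dRoot_of]
        have h1 := congrArg (coord p f (i + 1)) h
        rw [map_smul, (coord_of p f a).2 i, smul_eq_mul] at h1
        exact (mul_eq_zero.1 h1).resolve_left (pow_ne_zero _ hp)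
      choose w hw using hw
      have hD : ∀ (b : B) (a : A) (v : AdjoinRoot (poly p f)),
          φ b = AdjoinRoot.of (poly p f) a + (p : A) ^ n • v → dRoot p f (w b) = dRoot p f v := by
        intro b a v h
        rw [← sub_eq_zero, ← map_sub]
        refine huniq _ (a - coord p f 0 (φ b)) ?_
        rw [smul_sub, map_sub]
        linear_combination (hw b).symm.trans h
      let D : B →ₗ[A] AdjoinRoot (poly p f) ⧸ Ideal.span {((p : ℕ) : AdjoinRoot (poly p f))} :=
        { toFun := fun b => dRoot p f (w b)
          map_add' := fun b b' => by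
            rw [← map_add]
            exact hD _ (coord p f 0 (φ b) + coord p f 0 (φ b')) _ (by
              rw [map_add φ, map_add (AdjoinRoot.of (poly p f)), smul_add]
              linear_combination hw b + hw b')
          map_smul' := fun r b => by
            rw [RingHom.id_apply, ← map_smul]
            exact hD _ (r * coord p f 0 (φ b)) _ (by
              rw [map_smul φ]
              conv_lhs => rw [hw b]
              rw [smul_add, smul_comm r, map_mul, Algebra.smul_def r (AdjoinRoot.of _ _),
                AdjoinRoot.algebraMap_eq]) }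
      have hDzero : ∀ b, dRoot p f (w b) = 0 := by
        intro b
        by_cases hn : n = 0
        · have hw0 : ∀ b, dRoot p f (w b) = dRoot p f (φ b) := fun b => by
            have h1 := hw b
            rw [hn, pow_zero, one_smul] at h1
            conv_rhs => rw [h1, map_add, dRoot_of, zero_add]
          let d : Derivation A B _ := Derivation.mk' D (fun x y => by
            show dRoot p f (w (x * y)) = x • dRoot p f (w y) + y • dRoot p f (w x)
            rw [hw0, hw0, hw0, map_mul, dRoot_mul, Algebra.smul_def x, Algebra.smul_def y]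
            rfl)
          have : d b = 0 := by
            rw [← d.liftKaehlerDifferential_comp_D b, Subsingleton.elim (KaehlerDifferential.D A B b) 0,
              map_zero]
          exact this
        · let d : Derivation A B _ := Derivation.mk' D (fun x y => by
            show dRoot p f (w (x * y)) = x • dRoot p f (w y) + y • dRoot p f (w x)
            rw [Algebra.smul_def x, Algebra.smul_def y]
            have hxy := hD (x * y) (coord p f 0 (φ x) * coord p f 0 (φ y))
              (AdjoinRoot.of (poly p f) (coord p f 0 (φ x)) * w y +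
                AdjoinRoot.of (poly p f) (coord p f 0 (φ y)) * w x + (p : A) ^ n • (w x * w y)) (by
              rw [map_mul φ]
              conv_lhs => rw [hw x, hw y]
              simp only [Algebra.smul_def, AdjoinRoot.algebraMap_eq, map_mul]
              ring)
            have hq : red p f (((p : ℕ) : AdjoinRoot (poly p f))) = 0 :=
              Ideal.Quotient.eq_zero_iff_mem.2 (Ideal.subset_span rfl)
            have hpz : red p f (AdjoinRoot.of (poly p f) ((p : A) ^ n)) = 0 := by
              rw [map_pow, map_natCast, map_pow, hq, zero_pow hn]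
            have hredφ : ∀ z : B, red p f (φ z) =
                red p f (AdjoinRoot.of (poly p f) (coord p f 0 (φ z))) := fun z => by
              conv_lhs => rw [hw z]
              rw [Algebra.smul_def, AdjoinRoot.algebraMap_eq, map_add, map_mul, hpz, zero_mul, add_zero]
            rw [hxy, map_add, map_add, map_smul, dRoot_mul, dRoot_mul, dRoot_of, dRoot_of]
            show _ = red p f (φ x) * dRoot p f (w y) + red p f (φ y) * dRoot p f (w x)
            rw [hredφ x, hredφ y, Algebra.smul_def]
            have hpz' : algebraMap A (AdjoinRoot (poly p f) ⧸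
                Ideal.span {((p : ℕ) : AdjoinRoot (poly p f))}) ((p : A) ^ n) = 0 := hpz
            rw [hpz']
            ring)
          have : d b = 0 := by
            rw [← d.liftKaehlerDifferential_comp_D b, Subsingleton.elim (KaehlerDifferential.D A B b) 0,
              map_zero]
          exact this
      intro b i
      obtain ⟨c, hc⟩ := dvd_coord_of_dRoot_eq_zero p f (w b) (hDzero b) i
      refine ⟨c, ?_⟩
      rw [hw b, map_add, map_smul, (coord_of p f _).2 i, zero_add, smul_eq_mul, hc]
      ring
  exact mem_range_of p f _ fun i => hsep _ fun n => key n b i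

end Groth.Agent.PthRoot25
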