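import Groth.Agent.Lib.PthRoot25.Deriv
import Groth.Agent.S0505
import Groth.Agent.S0516
import Mathlib.RingTheory.RegularLocalRing.Defs
import Groth.Agent.Lib.RegLoc.Basic
import Mathlib.RingTheory.Etale.Pi
import Mathlib.RingTheory.Localization.Away.Basic
import Mathlib.RingTheory.LocalRing.ResidueField.Basic
import Mathlib.FieldTheory.IsSepClosed

/-!
Extension of covers which extend after adjoining a `p`-th root
-/

set_option autoImplicit false
set_option linter.style.haveILetI false

universe u

open Polynomial IsLocalRing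
open scoped TensorProduct

noncomputable section

namespace Groth.Agent.PthRoot25

/-- A finite étale algebra over a strictly henselian local ring is a power of the ring. -/
theorem exists_algEquiv_fun (R : Type u) [CommRing R] [HenselianLocalRing R]
    [IsSepClosed (ResidueField R)] (C : Type u) [CommRing C] [Algebra R C] [Algebra.Etale R C]
    [Module.Finite R C] :
    ∃ (ι : Type u) (_ : Finite ι), Nonempty (C ≃ₐ[R] (ι → R)) := by
  classical
  obtain ⟨ι, _, A, _, _, B, _, _, hA, hB, ⟨e⟩⟩ := Groth.Agent.S0516.result R C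
  haveI : Module.Finite R ((∀ i, A i) × B) := Module.Finite.equiv e.toLinearEquiv
  haveI : Module.Finite R B :=
    Module.Finite.of_surjective (LinearMap.snd R (∀ i, A i) B) Prod.snd_surjective
  haveI : Subsingleton B := by
    have h : (maximalIdeal R) • (⊤ : Submodule R B) = ⊤ := by
      rw [Ideal.smul_top_eq_map, hB]; rfl
    have h2 := Submodule.eq_bot_of_le_smul_of_le_jacobson_bot _ _ Module.Finite.fg_top h.ge
      (IsLocalRing.maximalIdeal_le_jacobson _)
    exact ⟨fun x y => ((Submodule.mem_bot R).1 (h2 ▸ Submodule.mem_top : x ∈ (⊥ : Submodule R B))).trans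
      ((Submodule.mem_bot R).1 (h2 ▸ Submodule.mem_top : y ∈ (⊥ : Submodule R B))).symm⟩
  haveI : Module.Flat R ((∀ i, A i) × B) := Module.Flat.of_linearEquiv e.symm.toLinearEquiv
  have hflat : ∀ i, Module.Flat R (A i) := fun i => by
    refine Module.Flat.of_retract
      ((LinearMap.inl R (∀ i, A i) B).comp (LinearMap.single R A i))
      ((LinearMap.proj i).comp (LinearMap.fst R (∀ i, A i) B)) ?_
    ext x
    simp
  let σ := {i : ι // Nontrivial (A i)}
  have hbij : ∀ i : σ, Function.Bijective (Algebra.ofId R (A i.1)) := fun i => by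
    haveI := hflat i.1
    haveI := i.2
    haveI : Module.Finite R (A i.1) :=
      Module.Finite.of_surjective (Algebra.linearMap R (A i.1)) (hA i.1)
    haveI : Module.Free R (A i.1) := Module.free_of_flat_of_isLocalRing
    exact ⟨FaithfulSMul.algebraMap_injective R _, hA i.1⟩
  let ψ : C →ₐ[R] (σ → R) := Pi.algHom R (fun _ : σ => R) fun i =>
    (AlgEquiv.ofBijective _ (hbij i)).symm.toAlgHom.comp
      (((Pi.evalAlgHom R A i.1).comp (AlgHom.fst R (∀ i, A i) B)).comp e.toAlgHom)
  refine ⟨σ, inferInstance, ⟨AlgEquiv.ofBijective ψ ⟨fun x y h => e.injective ?_, fun v => ?_⟩⟩⟩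
  · refine Prod.ext (funext fun i => ?_) (Subsingleton.elim _ _)
    by_cases hi : Nontrivial (A i)
    · exact (AlgEquiv.ofBijective _ (hbij ⟨i, hi⟩)).symm.injective (congrFun h ⟨i, hi⟩)
    · haveI := not_nontrivial_iff_subsingleton.1 hi
      exact Subsingleton.elim _ _
  · refine ⟨e.symm (fun i => if hi : Nontrivial (A i) then algebraMap R (A i) (v ⟨i, hi⟩) else 0, 0),
      funext fun i => ?_⟩
    show (AlgEquiv.ofBijective _ (hbij i)).symm ((e (e.symm _)).1 i.1) = v i
    rw [e.apply_symm_apply]
    simp only [dif_pos i.2]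
    exact (AlgEquiv.ofBijective _ (hbij i)).symm_apply_apply (v i)

theorem coord_of_map {A : Type u} [CommRing A] [IsDomain A] (p : ℕ) [Fact p.Prime] (f : A) (a : A) :
    coord p f 0 (AdjoinRoot.of (poly p f) a) = a := (coord_of p f a).1

theorem not_isUnit_natCast {A : Type u} [CommRing A] [IsDomain A] (p : ℕ) (f : A)
    (hf : (Ideal.span {f}).IsPrime) (hp : (p : A) ∉ Ideal.span {f}) (hpu : ¬ IsUnit (p : A))
    (hf0 : f ≠ 0) : ¬ IsUnit ((p : ℕ) : Localization.Away f) := by
  intro h
  rw [← map_natCast (algebraMap A (Localization.Away f)),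
    IsLocalization.algebraMap_isUnit_iff (Submonoid.powers f)] at h
  obtain ⟨m, ⟨n, rfl⟩, hm⟩ := h
  obtain ⟨c, hc⟩ := hm
  have hkey : ∀ (n : ℕ) (c : A), f ^ n = (p : A) * c → IsUnit (p : A) := by
    intro n
    induction n with
    | zero => exact fun c hc => IsUnit.of_mul_eq_one c (by rw [← hc, pow_zero])
    | succ n ih =>
      intro c hc
      have hcm : c ∈ Ideal.span {f} := (hf.mem_or_mem (show (p : A) * c ∈ Ideal.span {f} by
        rw [← hc, pow_succ]
        exact Ideal.mul_mem_left _ _ (Ideal.subset_span rfl))).resolve_left hp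
      obtain ⟨d, rfl⟩ := Ideal.mem_span_singleton.1 hcm
      exact ih d (mul_left_cancel₀ hf0 (by rw [← pow_succ', hc]; ring))
  exact hpu (hkey n c hc)

theorem exists_extension {A : Type u} [CommRing A] [IsRegularLocalRing A] [HenselianLocalRing A]
    [IsSepClosed (ResidueField A)] (p : ℕ) [Fact p.Prime] [CharP (ResidueField A) p] (f : A)
    (hreg : IsRegularLocalRing (A ⧸ Ideal.span {f})) (hp : (p : A) ∉ Ideal.span {f})
    (B : Type u) [CommRing B] [Algebra A B] [Algebra (Localization.Away f) B]
    [IsScalarTower A (Localization.Away f) B] [Algebra.Etale (Localization.Away f) B]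
    (C₁ : Type u) [CommRing C₁] [Algebra (AdjoinRoot (poly p f)) C₁]
    [Module.Finite (AdjoinRoot (poly p f)) C₁] [Algebra.Etale (AdjoinRoot (poly p f)) C₁]
    (e : Localization.Away (algebraMap (AdjoinRoot (poly p f)) C₁ (AdjoinRoot.of (poly p f) f))
        ≃ₐ[AdjoinRoot (poly p f)] TensorProduct A (AdjoinRoot (poly p f)) B) :
    ∃ (C : Type u) (_ : CommRing C) (_ : Algebra A C), Module.Finite A C ∧ Algebra.Etale A C ∧
      Nonempty (Localization.Away (algebraMap A C f) ≃ₐ[A] B) := by
  classical
  haveI : IsDomain A := Groth.Agent.RegLoc.isDomain A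
  haveI : IsDomain (A ⧸ Ideal.span {f}) := Groth.Agent.RegLoc.isDomain _
  have hfp : (Ideal.span {f}).IsPrime := Ideal.Quotient.isDomain_iff_prime _ |>.1 inferInstance
  by_cases hf0 : f = 0
  · subst hf0
    haveI : Subsingleton (Localization.Away (0 : A)) :=
      IsLocalization.subsingleton (M := Submonoid.powers (0 : A)) ⟨1, pow_one 0⟩
    haveI : Subsingleton B := Module.subsingleton (Localization.Away (0 : A)) B
    haveI : Subsingleton (Localization.Away (algebraMap A PUnit.{u + 1} 0)) :=
      IsLocalization.subsingleton (M := Submonoid.powers (algebraMap A PUnit.{u + 1} 0))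
        ⟨1, Subsingleton.elim _ _⟩
    haveI : Algebra.Etale A PUnit.{u + 1} :=
      Algebra.Etale.of_equiv (R := A) (A := Fin 0 → A)
        { toFun := fun _ => PUnit.unit, invFun := fun _ => 0,
          left_inv := fun x => Subsingleton.elim _ _, right_inv := fun x => Subsingleton.elim _ _,
          map_mul' := fun _ _ => rfl, map_add' := fun _ _ => rfl, commutes' := fun _ => rfl }
    exact ⟨PUnit.{u + 1}, inferInstance, inferInstance, inferInstance, inferInstance,
      ⟨{ toFun := fun _ => 0, invFun := fun _ => 0,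
         left_inv := fun x => Subsingleton.elim _ _, right_inv := fun x => Subsingleton.elim _ _,
         map_mul' := fun _ _ => Subsingleton.elim _ _, map_add' := fun _ _ => Subsingleton.elim _ _,
         commutes' := fun _ => Subsingleton.elim _ _ }⟩⟩
  have hpm : (p : A) ∈ maximalIdeal A := by
    rw [← residue_eq_zero_iff, map_natCast, CharP.cast_eq_zero]
  let R₁ := AdjoinRoot (poly p f)
  have hmon := monic_poly p f
  haveI : Module.Finite A R₁ := hmon.finite_adjoinRoot
  have hfm : f ∈ maximalIdeal A := fun hu =>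
    hp (by rw [Ideal.span_singleton_eq_top.2 hu]; trivial)
  -- `R₁` is strictly henselian
  haveI : IsLocalRing R₁ := by
    haveI : Nontrivial R₁ := AdjoinRoot.nontrivial _ (by
      rw [degree_eq_natDegree hmon.ne_zero, natDegree_poly]
      exact_mod_cast (Fact.out : p.Prime).ne_zero)
    refine IsLocalRing.of_unique_max_ideal
      ⟨Ideal.map (algebraMap A R₁) (maximalIdeal A) ⊔ Ideal.span {AdjoinRoot.root (poly p f)}, ?_⟩
    have huniq : ∀ M : Ideal R₁, M.IsMaximal →
        Ideal.map (algebraMap A R₁) (maximalIdeal A) ⊔ Ideal.span {AdjoinRoot.root (poly p f)} ≤ M := by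
      intro M hM
      haveI := hM
      have h1 : (M.comap (algebraMap A R₁)) = maximalIdeal A :=
        IsLocalRing.eq_maximalIdeal (Ideal.isMaximal_comap_of_isIntegral_of_isMaximal (R := A) M)
      refine sup_le (Ideal.map_le_iff_le_comap.2 h1.ge) ((Ideal.span_singleton_le_iff_mem _).2 ?_)
      refine hM.isPrime.mem_of_pow_mem p ?_
      have h2 : AdjoinRoot.root (poly p f) ^ p = algebraMap A R₁ f := by
        have h3 := AdjoinRoot.eval₂_root (poly p f)
        simp only [eval₂_sub, eval₂_X_pow, eval₂_C] at h3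
        exact sub_eq_zero.1 h3
      rw [h2, ← Ideal.mem_comap, h1]
      exact hfm
    have hmax : (Ideal.map (algebraMap A R₁) (maximalIdeal A) ⊔
        Ideal.span {AdjoinRoot.root (poly p f)}).IsMaximal := by
      obtain ⟨M, hM, hle⟩ := Ideal.exists_le_maximal _ (fun htop : Ideal.map (algebraMap A R₁)
          (maximalIdeal A) ⊔ Ideal.span {AdjoinRoot.root (poly p f)} = ⊤ => by
        obtain ⟨M, hM⟩ := Ideal.exists_maximal R₁
        exact hM.ne_top (top_le_iff.1 (htop ▸ huniq M hM)))
      suffices h : M ≤ Ideal.map (algebraMap A R₁) (maximalIdeal A) ⊔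
          Ideal.span {AdjoinRoot.root (poly p f)} by
        rwa [le_antisymm hle h]
      intro x hx
      obtain ⟨P, rfl⟩ := AdjoinRoot.mk_surjective x
      obtain ⟨Q, hQ⟩ := X_dvd_sub_C (p := P)
      have hP : AdjoinRoot.mk (poly p f) P = algebraMap A R₁ (P.coeff 0) +
          AdjoinRoot.root (poly p f) * AdjoinRoot.mk (poly p f) Q := by
        rw [← AdjoinRoot.mk_X, ← map_mul, ← hQ, AdjoinRoot.algebraMap_eq, ← AdjoinRoot.mk_C,
          ← map_add, add_sub_cancel]
      have hroot : AdjoinRoot.root (poly p f) * AdjoinRoot.mk (poly p f) Q ∈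
          Ideal.map (algebraMap A R₁) (maximalIdeal A) ⊔ Ideal.span {AdjoinRoot.root (poly p f)} :=
        Ideal.mul_mem_right _ _ (Ideal.mem_sup_right (Ideal.subset_span rfl))
      rw [hP] at hx ⊢
      refine Ideal.add_mem _ (Ideal.mem_sup_left (Ideal.mem_map_of_mem _ ?_)) hroot
      haveI := hM
      rw [← IsLocalRing.eq_maximalIdeal
        (Ideal.isMaximal_comap_of_isIntegral_of_isMaximal (R := A) M), Ideal.mem_comap]
      exact (M.add_mem_iff_left (hle hroot)).1 hx
    exact ⟨hmax, fun M hM => (hmax.eq_of_le hM.ne_top (huniq M hM)).symm⟩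
  haveI : HenselianLocalRing R₁ := Groth.Agent.S0505.result A R₁
  haveI : IsSepClosed (ResidueField R₁) := by
    haveI : IsLocalHom (algebraMap A R₁) :=
      RingHom.IsIntegral.isLocalHom (Algebra.IsIntegral.isIntegral (R := A))
        (AdjoinRoot.of.injective_of_degree_ne_zero (by
          rw [degree_eq_natDegree hmon.ne_zero, natDegree_poly]
          exact_mod_cast (Fact.out : p.Prime).ne_zero))
    have hs : Function.Surjective (ResidueField.map (algebraMap A R₁)) := by
      intro z
      obtain ⟨x, rfl⟩ := residue_surjective z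
      obtain ⟨P, rfl⟩ := AdjoinRoot.mk_surjective x
      obtain ⟨Q, hQ⟩ := X_dvd_sub_C (p := P)
      refine ⟨residue A (P.coeff 0), ?_⟩
      rw [ResidueField.map_residue, ← sub_eq_zero, ← map_sub, residue_eq_zero_iff,
        AdjoinRoot.algebraMap_eq, ← AdjoinRoot.mk_C, ← map_sub,
        show C (P.coeff 0) - P = X * (-Q) by rw [mul_neg, ← hQ, neg_sub], map_mul, AdjoinRoot.mk_X]
      refine Ideal.mul_mem_right _ _ ((maximalIdeal.isMaximal R₁).isPrime.mem_of_pow_mem p ?_)
      have h3 := AdjoinRoot.eval₂_root (poly p f)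
      simp only [eval₂_sub, eval₂_X_pow, eval₂_C] at h3
      rw [sub_eq_zero.1 h3]
      exact map_nonunit (algebraMap A R₁) f hfm
    let eR : ResidueField A ≃+* ResidueField R₁ :=
      RingEquiv.ofBijective (ResidueField.map (algebraMap A R₁)) ⟨RingHom.injective _, hs⟩
    refine IsSepClosed.of_exists_root _ fun P hm hi hs' => ?_
    obtain ⟨x, hx⟩ := IsSepClosed.exists_root (P.map eR.symm.toRingHom)
      (by rw [degree_map_eq_of_injective eR.symm.injective]; exact (degree_pos_of_irreducible hi).ne')
      hs'.map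
    refine ⟨eR x, eR.symm.injective ?_⟩
    rw [map_zero, ← hx.eq_zero, eval_map, eval]
    exact (hom_eval₂ P (RingHom.id _) eR.symm.toRingHom (eR x)).trans
      (by rw [RingHom.comp_id]
          exact congrArg (fun z => eval₂ eR.symm.toRingHom z P) (eR.symm_apply_apply x))
  obtain ⟨ι, _, ⟨u⟩⟩ := exists_algEquiv_fun R₁ C₁
  -- the rings after inverting `f`
  let A' := Localization.Away f
  let f' : A' := algebraMap A A' f
  haveI : IsDomain A' := IsLocalization.isDomain_localization
    (powers_le_nonZeroDivisors_of_noZeroDivisors hf0)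
  haveI : IsNoetherianRing A' := IsLocalization.isNoetherianRing (Submonoid.powers f) (Localization.Away f) inferInstance
  have hinj : Function.Injective (algebraMap A A') :=
    IsLocalization.injective A' (powers_le_nonZeroDivisors_of_noZeroDivisors hf0)
  have hpA : (p : A') ≠ 0 := by
    rw [← map_natCast (algebraMap A A')]
    exact fun h => hp ((hinj (h.trans (map_zero _).symm)) ▸ Submodule.zero_mem _)
  have hsep : ∀ c : A', (∀ n : ℕ, (p : A') ^ n ∣ c) → c = 0 := fun c hc => by
    have h1 : c ∈ ⨅ n : ℕ, Ideal.span {(p : A')} ^ n := Ideal.mem_iInf.2 fun n => by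
      rw [Ideal.span_singleton_pow, Ideal.mem_span_singleton]
      exact hc n
    rwa [Ideal.iInf_pow_eq_bot_of_isDomain _ (fun h => not_isUnit_natCast p f hfp hp
      (fun hu => hpm hu) hf0 (Ideal.span_singleton_eq_top.1 h)), Ideal.mem_bot] at h1
  let R' := AdjoinRoot (poly p f')
  let ρ : R₁ →ₐ[A] R' := AdjoinRoot.liftAlgHom (poly p f) (Algebra.ofId A R')
    (AdjoinRoot.root (poly p f')) (by
      have h3 := AdjoinRoot.eval₂_root (poly p f')
      simp only [eval₂_sub, eval₂_X_pow, eval₂_C] at h3 ⊢
      exact h3)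
  letI : Algebra R₁ R' := ρ.toRingHom.toAlgebra
  haveI : IsScalarTower A R₁ R' := IsScalarTower.of_algebraMap_eq fun a => (ρ.commutes a).symm
  let c₁ : ι → C₁ →+* R' := fun i => ρ.toRingHom.comp ((Pi.evalRingHom (fun _ => R₁) i).comp u.toRingEquiv.toRingHom)
  have hc₁ : ∀ i r, c₁ i (algebraMap R₁ C₁ r) = ρ r := fun i r => by
    show ρ (u (algebraMap R₁ C₁ r) i) = ρ r
    rw [u.commutes]
    rfl
  have hunit : ∀ i, IsUnit (c₁ i (algebraMap R₁ C₁ (AdjoinRoot.of (poly p f) f))) := fun i => by
    rw [hc₁, ← AdjoinRoot.algebraMap_eq, ρ.commutes, IsScalarTower.algebraMap_apply A A' R']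
    exact (IsLocalization.Away.algebraMap_isUnit f).map _
  let q : ι → Localization.Away (algebraMap R₁ C₁ (AdjoinRoot.of (poly p f) f)) →+* R' := fun i =>
    IsLocalization.Away.lift (algebraMap R₁ C₁ (AdjoinRoot.of (poly p f) f)) (hunit i)
  have hq : ∀ i x, q i (algebraMap C₁ _ x) = c₁ i x := fun i x =>
    IsLocalization.Away.lift_eq _ (hunit i) x
  have hqR : ∀ i (r : R₁), q i (algebraMap R₁ _ r) = ρ r := fun i r =>
    (congrArg (q i) (IsScalarTower.algebraMap_apply R₁ C₁
      (Localization.Away (algebraMap R₁ C₁ (AdjoinRoot.of (poly p f) f))) r)).trans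
      ((hq i _).trans (hc₁ i r))
  let φ : ι → B →ₐ[A'] R' := fun i =>
    { ((q i).comp (e.symm.toRingEquiv.toRingHom.comp
        (Algebra.TensorProduct.includeRight (R := A) (A := R₁) (B := B)).toRingHom)) with
      commutes' := fun a => by
        refine RingHom.congr_fun (IsLocalization.ringHom_ext (Submonoid.powers f)
          (j := ((q i).comp (e.symm.toRingEquiv.toRingHom.comp
            (Algebra.TensorProduct.includeRight (R := A) (A := R₁) (B := B)).toRingHom)).comp
              (algebraMap A' B)) (k := algebraMap A' R') (RingHom.ext fun a => ?_)) a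
        show q i (e.symm ((1 : R₁) ⊗ₜ[A] algebraMap A' B (algebraMap A A' a))) =
          algebraMap A' R' (algebraMap A A' a)
        rw [← IsScalarTower.algebraMap_apply, ← IsScalarTower.algebraMap_apply,
          ← Algebra.TensorProduct.tmul_one_eq_one_tmul, ← ρ.commutes, ← hqR i (algebraMap A R₁ a),
          show (algebraMap A R₁ a) ⊗ₜ[A] (1 : B) = algebraMap R₁ (R₁ ⊗[A] B) (algebraMap A R₁ a)
            from rfl, e.symm.commutes] }
  let ψ : ι → B → A' := fun i b => coord p f' 0 (φ i b)
  have hψ : ∀ i b, AdjoinRoot.of (poly p f') (ψ i b) = φ i b := fun i b =>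
    mem_range_of_formallyUnramified p f' (φ i) hpA hsep b
  let Ψ : B →ₐ[A'] (ι → A') :=
    { toFun := fun b i => ψ i b
      map_one' := funext fun i => by
        show coord p f' 0 (φ i 1) = 1
        rw [map_one, ← map_one (AdjoinRoot.of (poly p f')), coord_of_map]
      map_mul' := fun b b' => funext fun i => by
        show coord p f' 0 (φ i (b * b')) = ψ i b * ψ i b'
        rw [map_mul, ← hψ i b, ← hψ i b', ← map_mul, coord_of_map]
      map_zero' := funext fun i => by
        show coord p f' 0 (φ i 0) = 0
        rw [map_zero, map_zero]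
      map_add' := fun b b' => funext fun i => by
        show coord p f' 0 (φ i (b + b')) = _
        rw [map_add, map_add]; rfl
      commutes' := fun a => funext fun i => by
        show coord p f' 0 (φ i (algebraMap A' B a)) = a
        rw [AlgHom.commutes, AdjoinRoot.algebraMap_eq, coord_of_map] }
  have hqinj : ∀ x, (∀ i, q i x = 0) → x = 0 := by
    intro x hx
    obtain ⟨⟨c, ⟨_, n, rfl⟩⟩, hcx⟩ := IsLocalization.surj
      (Submonoid.powers (algebraMap R₁ C₁ (AdjoinRoot.of (poly p f) f))) x
    have hρinj : Function.Injective ρ := by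
      intro r r' hr
      rw [← sub_eq_zero] at hr ⊢
      rw [← map_sub] at hr
      obtain ⟨P, hP⟩ := AdjoinRoot.mk_surjective (r - r')
      rw [← hP] at hr ⊢
      have hmap : ρ (AdjoinRoot.mk (poly p f) P) =
          AdjoinRoot.mk (poly p f') (P.map (algebraMap A A')) := by
        refine RingHom.congr_fun (Polynomial.ringHom_ext (f := ρ.toRingHom.comp (AdjoinRoot.mk (poly p f)))
          (g := (AdjoinRoot.mk (poly p f')).comp (mapRingHom (algebraMap A A')))
          (fun a => ?_) ?_) P
        · show ρ (AdjoinRoot.mk (poly p f) (C a)) = AdjoinRoot.mk (poly p f') ((C a).map _)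
          rw [map_C, AdjoinRoot.mk_C, AdjoinRoot.mk_C, ← AdjoinRoot.algebraMap_eq, ρ.commutes,
            IsScalarTower.algebraMap_apply A A' R', AdjoinRoot.algebraMap_eq]
        · show ρ (AdjoinRoot.mk (poly p f) X) = AdjoinRoot.mk (poly p f') (X.map _)
          rw [map_X, AdjoinRoot.mk_X, AdjoinRoot.mk_X]
          exact AdjoinRoot.liftAlgHom_root _ _ _ _
      rw [hmap, AdjoinRoot.mk_eq_zero] at hr
      rw [AdjoinRoot.mk_eq_zero, ← map_dvd_map _ hinj hmon]
      convert! hr using 1
      simp [f', Polynomial.map_sub, Polynomial.map_pow]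
    have hc0 : c = 0 := u.injective (funext fun i => hρinj (by
      rw [map_zero u]
      show ρ (u c i) = ρ (0 : R₁)
      rw [map_zero]
      have h1 := congrArg (q i) hcx
      rw [map_mul, hx i, zero_mul, hq] at h1
      exact h1.symm))
    have hfu : IsUnit (algebraMap C₁ (Localization.Away
        (algebraMap R₁ C₁ (AdjoinRoot.of (poly p f) f)))
        ((algebraMap R₁ C₁ (AdjoinRoot.of (poly p f) f)) ^ n)) :=
      IsLocalization.map_units _ (⟨_, n, rfl⟩ :
        Submonoid.powers (algebraMap R₁ C₁ (AdjoinRoot.of (poly p f) f)))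
    rw [hc0, map_zero] at hcx
    exact hfu.mul_left_eq_zero.1 hcx
  have hΨ : Function.Bijective Ψ := by
    constructor
    · refine (injective_iff_map_eq_zero Ψ).2 fun b hb => ?_
      have h1 : e.symm ((1 : R₁) ⊗ₜ[A] b) = 0 := hqinj _ fun i => by
        show φ i b = 0
        rw [← hψ, show ψ i b = 0 from congrFun hb i, map_zero]
      have h2 : ((1 : R₁) ⊗ₜ[A] b) = 0 := e.symm.injective (h1.trans (map_zero _).symm)
      have h3 := congrArg ((TensorProduct.lid A B).toLinearMap ∘ₗ
        LinearMap.rTensor B (coord p f 0)) h2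
      rw [map_zero] at h3
      have h4 : coord p f 0 (1 : R₁) = 1 := by
        rw [← map_one (AdjoinRoot.of (poly p f)), coord_of_map]
      simp only [LinearMap.comp_apply, LinearMap.rTensor_tmul, LinearEquiv.coe_coe,
        TensorProduct.lid_tmul] at h3
      rwa [h4, one_smul] at h3
    · have key : ∀ x : R₁ ⊗[A] B, ∃ b : B, ∀ i, coord p f' 0 (q i (e.symm x)) = ψ i b := by
        intro x
        induction x using TensorProduct.induction_on with
        | zero => exact ⟨0, fun i => by simp [ψ]⟩
        | add a b ha hb =>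
          obtain ⟨a', ha'⟩ := ha
          obtain ⟨b', hb'⟩ := hb
          exact ⟨a' + b', fun i => by rw [map_add, map_add, map_add, ha', hb']; simp [ψ]⟩
        | tmul r b =>
          refine ⟨coord p f' 0 (ρ r) • b, fun i => ?_⟩
          have h1 : q i (e.symm (r ⊗ₜ[A] b)) = ρ r * φ i b := by
            rw [show r ⊗ₜ[A] b = algebraMap R₁ (R₁ ⊗[A] B) r * (1 ⊗ₜ[A] b) by
              rw [Algebra.TensorProduct.algebraMap_apply, Algebra.TensorProduct.tmul_mul_tmul,
                mul_one, one_mul]; rfl, map_mul, e.symm.commutes, map_mul, hqR]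
            rfl
          show _ = coord p f' 0 (φ i (coord p f' 0 (ρ r) • b))
          rw [h1, map_smul, map_smul, ← hψ i b, mul_comm, ← AdjoinRoot.algebraMap_eq,
            ← Algebra.smul_def, map_smul, smul_eq_mul, smul_eq_mul, AdjoinRoot.algebraMap_eq,
            coord_of_map, mul_comm]
      intro v
      have hδ : ∀ j : ι, ∃ b : B, Ψ b = Pi.single j 1 := fun j => by
        obtain ⟨b, hb⟩ := key (e (algebraMap C₁ _ (u.symm (Pi.single j 1))))
        refine ⟨b, funext fun i => ?_⟩
        show ψ i b = _
        rw [← hb i, e.symm_apply_apply, hq]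
        show coord p f' 0 (ρ (u (u.symm (Pi.single j 1)) i)) = _
        rw [u.apply_symm_apply]
        rcases eq_or_ne i j with rfl | hij
        · rw [Pi.single_eq_same, Pi.single_eq_same, map_one, ← map_one (AdjoinRoot.of (poly p f')),
            coord_of_map]
        · rw [Pi.single_eq_of_ne hij, Pi.single_eq_of_ne hij, map_zero, map_zero]
      choose b hb using hδ
      haveI := Fintype.ofFinite ι
      refine ⟨∑ j, v j • b j, ?_⟩
      rw [map_sum]
      simp only [map_smul, hb]
      funext i
      simp [Finset.sum_apply, Pi.single_apply]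
  -- the extension
  let C := ι → A
  letI : Algebra C (ι → A') := (RingHom.pi fun i => (algebraMap A A').comp (Pi.evalRingHom _ i)).toAlgebra
  haveI := Fintype.ofFinite ι
  haveI : IsLocalization.Away (algebraMap A C f) (ι → A') := by
    constructor
    refine ⟨?_, ?_, ?_⟩
    · rintro ⟨_, n, rfl⟩
      rw [map_pow]
      refine IsUnit.pow n ?_
      rw [Pi.isUnit_iff]
      exact fun i => IsLocalization.Away.algebraMap_isUnit f
    · intro z
      choose a hs using fun i => IsLocalization.surj (Submonoid.powers f) (z i)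
      choose n hn using fun i => (a i).2.2
      refine ⟨⟨fun i => (a i).1 * f ^ (∑ j, n j - n i),
        ⟨(algebraMap A C f) ^ (∑ j, n j), ∑ j, n j, rfl⟩⟩, funext fun i => ?_⟩
      show z i * algebraMap A A' (((algebraMap A C f) ^ (∑ j, n j)) i) =
        algebraMap A A' ((a i).1 * f ^ (∑ j, n j - n i))
      rw [Pi.pow_apply, show (algebraMap A C f) i = f from rfl, map_mul, ← hs i, mul_assoc,
        ← map_mul, show ((a i).2 : A) = f ^ n i from (hn i).symm, ← pow_add,
        Nat.add_sub_cancel' (Finset.single_le_sum (fun j _ => Nat.zero_le (n j)) (Finset.mem_univ i))]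
    · intro x y h
      refine ⟨1, ?_⟩
      simp only [Submonoid.coe_one, one_mul]
      exact funext fun i => hinj (congrFun h i)
  exact ⟨C, inferInstance, inferInstance, inferInstance, inferInstance,
    ⟨AlgEquiv.trans (AlgEquiv.ofRingEquiv (f := (IsLocalization.algEquiv
      (Submonoid.powers (algebraMap A C f))
      (Localization.Away (algebraMap A C f)) (ι → A')).toRingEquiv) (fun a =>
        (congrArg _ (IsScalarTower.algebraMap_apply A C (Localization.Away (algebraMap A C f)) a)).trans
          ((IsLocalization.algEquiv (Submonoid.powers (algebraMap A C f))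
            (Localization.Away (algebraMap A C f)) (ι → A')).commutes (algebraMap A C a))))
      ((AlgEquiv.ofBijective Ψ hΨ).symm.restrictScalars A)⟩⟩

end Groth.Agent.PthRoot25
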